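import Cfsg.Agent.FormOrder.Arith

/-!
Orders of isometries of a nondegenerate bilinear form over a finite field.
-/

set_option autoImplicit false
set_option linter.style.haveILetI false

namespace Cfsg.Agent.FormOrder

open Polynomial

theorem exists_orbits {Ω : Type*} [Field Ω] [DecidableEq Ω] {q : ℕ} (hq : 2 ≤ q)
    (hinj : Function.Injective fun x : Ω => x ^ q) : ∀ (n : ℕ) (R : Finset Ω), R.card = n →
    (∀ x ∈ R, x ≠ 0 ∧ x⁻¹ ≠ x ∧ x ^ q ∈ R ∧ x⁻¹ ∈ R) →
    ∃ s : Multiset (ℕ × Bool), (∀ e ∈ s, 0 < e.1) ∧ 2 * (s.map Prod.fst).sum = R.card ∧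
      ∀ x ∈ R, ∃ e ∈ s, x ^ val q e = 1 := by
  intro n
  induction n using Nat.strong_induction_on with
  | _ n ih =>
    intro R hn hR
    rcases R.eq_empty_or_nonempty with rfl | ⟨x, hx⟩
    · exact ⟨0, by simp, by simp, by simp⟩
    have hinjk : ∀ k : ℕ, Function.Injective fun y : Ω => y ^ q ^ k := by
      intro k
      induction k with
      | zero => intro a b h; simpa using h
      | succ k ihk =>
        intro a b h
        simp only [pow_succ, pow_mul] at h
        exact ihk (hinj h)
    have hmem : ∀ k : ℕ, ∀ y ∈ R, y ^ q ^ k ∈ R := by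
      intro k
      induction k with
      | zero => intro y hy; simpa using hy
      | succ k ihk =>
        intro y hy
        rw [pow_succ, pow_mul]
        exact (hR _ (ihk y hy)).2.2.1
    have hper : ∃ k, 0 < k ∧ x ^ q ^ k = x := by
      obtain ⟨i, j, hne, heq⟩ := Finite.exists_ne_map_eq_of_infinite
        (fun k : ℕ => (⟨x ^ q ^ k, hmem k x hx⟩ : {y // y ∈ R}))
      have heq' : x ^ q ^ i = x ^ q ^ j := congrArg Subtype.val heq
      rcases Nat.lt_or_gt_of_ne hne with h | h
      · refine ⟨j - i, by omega, hinjk i ?_⟩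
        show (x ^ q ^ (j - i)) ^ q ^ i = x ^ q ^ i
        rw [← pow_mul, ← pow_add, Nat.sub_add_cancel h.le]
        exact heq'.symm
      · refine ⟨i - j, by omega, hinjk j ?_⟩
        show (x ^ q ^ (i - j)) ^ q ^ j = x ^ q ^ j
        rw [← pow_mul, ← pow_add, Nat.sub_add_cancel h.le]
        exact heq'
    obtain ⟨d, ⟨hd, hxd⟩, hmin⟩ :=
      (⟨Nat.find hper, Nat.find_spec hper, fun k hk => Nat.find_min hper hk⟩ :
        ∃ d, (0 < d ∧ x ^ q ^ d = x) ∧ ∀ k < d, ¬ (0 < k ∧ x ^ q ^ k = x))
    have hadd : ∀ a b : ℕ, x ^ q ^ (a + b) = (x ^ q ^ a) ^ q ^ b := fun a b => by rw [pow_add, pow_mul]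
    have hmuld : ∀ k, x ^ q ^ (d * k) = x := by
      intro k
      induction k with
      | zero => simp
      | succ k ihk => rw [Nat.mul_succ, hadd, ihk, hxd]
    have hmod : ∀ k, x ^ q ^ k = x ^ q ^ (k % d) := fun k => by
      conv_lhs => rw [← Nat.div_add_mod k d]
      rw [hadd, hmuld]
    set O := (Finset.range d).image fun k => x ^ q ^ k with hO
    have hmemO : ∀ k, x ^ q ^ k ∈ O := fun k => by
      rw [hmod]
      exact Finset.mem_image_of_mem _ (Finset.mem_range.2 (Nat.mod_lt _ hd))
    have hcardO : O.card = d := by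
      rw [hO, Finset.card_image_of_injOn, Finset.card_range]
      have key : ∀ a b, a < b → b < d → x ^ q ^ a ≠ x ^ q ^ b := fun a b hab hb he => by
        have h1 : x ^ q ^ (d - b + a) = x := by
          rw [add_comm, hadd, he, ← hadd, show b + (d - b) = d by omega, hxd]
        exact hmin _ (by omega) ⟨by omega, h1⟩
      intro a ha b hb he
      simp only [Finset.coe_range, Set.mem_Iio] at ha hb
      rcases Nat.lt_trichotomy a b with h | h | h
      · exact absurd he (key a b h hb)
      · exact h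
      · exact absurd he.symm (key b a h ha)
    have hOR : O ⊆ R := fun y hy => by
      obtain ⟨k, -, rfl⟩ := Finset.mem_image.1 hy
      exact hmem k x hx
    have hback : ∀ y, y ^ q ∈ O → y ∈ O := fun y hy => by
      obtain ⟨k, hk, he⟩ := Finset.mem_image.1 hy
      have e2 : (x ^ q ^ (k + (d - 1))) ^ q = y ^ q := by
        rw [← pow_mul, ← pow_succ, show k + (d - 1) + 1 = k + d by omega, add_comm, hadd, hxd, he]
      rw [← hinj e2]
      exact hmemO _
    by_cases hself : x⁻¹ ∈ O
    · obtain ⟨i, hi, he⟩ := Finset.mem_image.1 hself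
      rw [Finset.mem_range] at hi
      have hi0 : i ≠ 0 := by
        rintro rfl
        rw [pow_zero, pow_one] at he
        exact (hR x hx).2.1 he.symm
      have h2i : x ^ q ^ (2 * i) = x := by rw [two_mul, hadd, he, inv_pow, he, inv_inv]
      have hdi : d = 2 * i := by
        have h1 : x ^ q ^ (2 * i % d) = x := by rw [← hmod, h2i]
        rcases Nat.eq_zero_or_pos (2 * i % d) with h | h
        · obtain ⟨c, hc⟩ := Nat.dvd_of_mod_eq_zero h
          rcases Nat.lt_trichotomy c 1 with hc' | hc' | hc'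
          · have : c = 0 := by omega
            subst this
            omega
          · subst hc'; omega
          · nlinarith
        · exact absurd ⟨h, h1⟩ (hmin _ (Nat.mod_lt _ hd))
      have hinvO : ∀ y ∈ O, y⁻¹ ∈ O := fun y hy => by
        obtain ⟨k, -, rfl⟩ := Finset.mem_image.1 hy
        rw [← inv_pow, ← he, ← hadd]
        exact hmemO _
      have hlt : (R \ O).card < n := by
        rw [Finset.card_sdiff_of_subset hOR, hcardO, hn]
        have : 0 < n := hn ▸ Finset.card_pos.2 ⟨x, hx⟩
        omega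
      obtain ⟨s, hs1, hs2, hs3⟩ := ih _ hlt (R \ O) rfl fun y hy => by
        obtain ⟨hy1, hy2⟩ := Finset.mem_sdiff.1 hy
        obtain ⟨h0, h1, h2, h3⟩ := hR y hy1
        exact ⟨h0, h1, Finset.mem_sdiff.2 ⟨h2, fun h => hy2 (hback y h)⟩,
          Finset.mem_sdiff.2 ⟨h3, fun h => hy2 (inv_inv y ▸ hinvO _ h)⟩⟩
      refine ⟨(i, true) ::ₘ s, ?_, ?_, fun y hy => ?_⟩
      · intro e he'
        rcases Multiset.mem_cons.1 he' with rfl | he'
        · exact Nat.pos_of_ne_zero hi0
        · exact hs1 e he'
      · rw [Multiset.map_cons, Multiset.sum_cons, mul_add, hs2, Finset.card_sdiff_of_subset hOR, hcardO]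
        have := Finset.card_le_card hOR
        simp only at *
        omega
      · by_cases hyO : y ∈ O
        · refine ⟨(i, true), Multiset.mem_cons_self _ _, ?_⟩
          obtain ⟨k, -, rfl⟩ := Finset.mem_image.1 hyO
          rw [val, if_pos rfl, pow_right_comm]
          simp only
          rw [pow_succ, he, inv_mul_cancel₀ (hR x hx).1, one_pow]
        · obtain ⟨e, he', h⟩ := hs3 y (Finset.mem_sdiff.2 ⟨hy, hyO⟩)
          exact ⟨e, Multiset.mem_cons_of_mem he', h⟩
    · have hdisj : Disjoint O (O.image fun y => y⁻¹) := by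
        rw [Finset.disjoint_left]
        intro y hy hy'
        obtain ⟨z, hz, rfl⟩ := Finset.mem_image.1 hy'
        obtain ⟨a, ha, hea⟩ := Finset.mem_image.1 hy
        obtain ⟨b, hb, rfl⟩ := Finset.mem_image.1 hz
        rw [Finset.mem_range] at hb
        refine hself ?_
        have h1 : x ^ q ^ (a + (d - b)) = x⁻¹ := by
          rw [hadd, hea, inv_pow, ← hadd, show b + (d - b) = d by omega, hxd]
        rw [← h1]
        exact hmemO _
      set O2 := O ∪ O.image fun y => y⁻¹ with hO2
      have hcard2 : O2.card = 2 * d := by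
        rw [hO2, Finset.card_union_of_disjoint hdisj, Finset.card_image_of_injective _ inv_injective, hcardO]
        omega
      have hO2R : O2 ⊆ R := Finset.union_subset hOR fun y hy => by
        obtain ⟨z, hz, rfl⟩ := Finset.mem_image.1 hy
        exact (hR z (hOR hz)).2.2.2
      have hlt : (R \ O2).card < n := by
        rw [Finset.card_sdiff_of_subset hO2R, hcard2, hn]
        have : 0 < n := hn ▸ Finset.card_pos.2 ⟨x, hx⟩
        omega
      obtain ⟨s, hs1, hs2, hs3⟩ := ih _ hlt (R \ O2) rfl fun y hy => by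
        obtain ⟨hy1, hy2⟩ := Finset.mem_sdiff.1 hy
        obtain ⟨h0, h1, h2, h3⟩ := hR y hy1
        refine ⟨h0, h1, Finset.mem_sdiff.2 ⟨h2, fun h => hy2 ?_⟩, Finset.mem_sdiff.2 ⟨h3, fun h => hy2 ?_⟩⟩
        · rcases Finset.mem_union.1 h with h | h
          · exact Finset.mem_union_left _ (hback y h)
          · obtain ⟨z, hz, hzy⟩ := Finset.mem_image.1 h
            refine Finset.mem_union_right _ (Finset.mem_image.2 ⟨y⁻¹, hback _ ?_, inv_inv y⟩)
            rw [inv_pow, ← hzy, inv_inv]
            exact hz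
        · rcases Finset.mem_union.1 h with h | h
          · exact Finset.mem_union_right _ (Finset.mem_image.2 ⟨y⁻¹, h, inv_inv y⟩)
          · obtain ⟨z, hz, hzy⟩ := Finset.mem_image.1 h
            exact Finset.mem_union_left _ (inv_injective hzy ▸ hz)
      refine ⟨(d, false) ::ₘ s, ?_, ?_, fun y hy => ?_⟩
      · intro e he'
        rcases Multiset.mem_cons.1 he' with rfl | he'
        · exact hd
        · exact hs1 e he'
      · rw [Multiset.map_cons, Multiset.sum_cons, mul_add, hs2, Finset.card_sdiff_of_subset hO2R, hcard2]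
        have := Finset.card_le_card hO2R
        simp only at *
        omega
      · by_cases hyO : y ∈ O2
        · refine ⟨(d, false), Multiset.mem_cons_self _ _, ?_⟩
          have h1 : x ^ (q ^ d - 1) = 1 := by
            refine mul_right_cancel₀ (hR x hx).1 ?_
            rw [← pow_succ, Nat.sub_add_cancel (Nat.one_le_pow _ _ (by omega)), one_mul, hxd]
          rw [val, if_neg (by simp)]
          rcases Finset.mem_union.1 hyO with h | h
          · obtain ⟨k, -, rfl⟩ := Finset.mem_image.1 h
            rw [pow_right_comm, h1, one_pow]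
          · obtain ⟨z, hz, rfl⟩ := Finset.mem_image.1 h
            obtain ⟨k, -, rfl⟩ := Finset.mem_image.1 hz
            rw [inv_pow, pow_right_comm, h1, one_pow, inv_one]
        · obtain ⟨e, he', h⟩ := hs3 y (Finset.mem_sdiff.2 ⟨hy, hyO⟩)
          exact ⟨e, Multiset.mem_cons_of_mem he', h⟩

section Form

variable {F : Type*} [Field F] {V : Type*} [AddCommGroup V] [Module F V]

theorem adjoint_aeval (B : V →ₗ[F] V →ₗ[F] F) {g g' : Module.End F V} (h1 : g * g' = 1)
    (hg : ∀ u v, B (g u) (g v) = B u v) (P : F[X]) : ∀ u v, B (aeval g' P u) v = B u (aeval g P v) := by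
  have hk : ∀ (k : ℕ) (u v : V), B ((g' ^ k) u) v = B u ((g ^ k) v) := by
    intro k
    induction k with
    | zero => intro u v; rfl
    | succ k ih =>
      intro u v
      have e : g (g' ((g' ^ k) u)) = (g' ^ k) u := by rw [← Module.End.mul_apply, h1]; rfl
      rw [pow_succ' g', pow_succ g, Module.End.mul_apply, Module.End.mul_apply, ← hg (g' ((g' ^ k) u)) v, e, ih]
  induction P using Polynomial.induction_on' with
  | add a b ha hb => intro u v; simp [ha u v, hb u v]
  | monomial k a => intro u v; simp [Polynomial.aeval_monomial, Algebra.algebraMap_eq_smul_one, hk k u v]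

theorem aeval_reverse {A : Type*} [Ring A] [Algebra F A] {g g' : A} (h1 : g * g' = 1) (P : F[X]) :
    aeval g P.reverse = g ^ P.natDegree * aeval g' P := by
  rw [aeval_eq_sum_range' (n := P.natDegree + 1) (p := P.reverse)
      (by have := P.reverse_natDegree; omega) g, aeval_eq_sum_range, Finset.mul_sum,
    ← Finset.sum_range_reflect]
  refine Finset.sum_congr rfl fun i hi => ?_
  rw [Finset.mem_range] at hi
  rw [Polynomial.coeff_reverse, Polynomial.revAt_le (by omega), show P.natDegree - (P.natDegree + 1 - 1 - i) = i by omega,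
    mul_smul_comm, show P.natDegree + 1 - 1 - i = P.natDegree - i by omega]
  congr 1
  conv_rhs => rw [← Nat.sub_add_cancel (show i ≤ P.natDegree by omega), pow_add, mul_assoc]
  have hi' : ∀ k : ℕ, g ^ k * g' ^ k = 1 := by
    intro k
    induction k with
    | zero => simp
    | succ k ih => rw [pow_succ g, pow_succ' g', mul_assoc, ← mul_assoc g g', h1, one_mul, ih]
  rw [hi', mul_one]

/-- The minimal polynomial of an isometry is self-reciprocal. -/
theorem minpoly_reverse [FiniteDimensional F V] (B : V →ₗ[F] V →ₗ[F] F) (hB : ∀ u, (∀ v, B u v = 0) → u = 0)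
    {g g' : Module.End F V} (h1 : g * g' = 1) (h2 : g' * g = 1) (hg : ∀ u v, B (g u) (g v) = B u v) :
    (minpoly F g).coeff 0 ≠ 0 ∧ ∃ c : F, c ≠ 0 ∧ (minpoly F g).reverse = C c * minpoly F g := by
  have hint : IsIntegral F g := Algebra.IsIntegral.isIntegral g
  have hm := minpoly.monic hint
  have hz : aeval g' (minpoly F g) = 0 := LinearMap.ext fun u => hB _ fun v => by
    rw [adjoint_aeval B h1 hg, minpoly.aeval]
    simp
  have h0 : (minpoly F g).coeff 0 ≠ 0 := by
    intro h
    obtain ⟨r, hr⟩ := X_dvd_iff.2 h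
    have hr0 : r ≠ 0 := by rintro rfl; rw [mul_zero] at hr; exact hm.ne_zero hr
    have h3 : aeval g r = 0 := by
      have h4 := minpoly.aeval F g
      rw [hr, map_mul, aeval_X] at h4
      calc aeval g r = g' * (g * aeval g r) := by rw [← mul_assoc, h2, one_mul]
        _ = 0 := by rw [h4, mul_zero]
    have h4 := natDegree_le_of_dvd (minpoly.dvd F g h3) hr0
    rw [hr, natDegree_mul X_ne_zero hr0, natDegree_X] at h4
    omega
  refine ⟨h0, ?_⟩
  have hd : minpoly F g ∣ (minpoly F g).reverse := minpoly.dvd F g (by rw [aeval_reverse h1, hz, mul_zero])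
  have hr0 : (minpoly F g).reverse ≠ 0 := by rw [Ne, Polynomial.reverse_eq_zero]; exact hm.ne_zero
  obtain ⟨r, hr⟩ := hd
  have hrne : r ≠ 0 := by rintro rfl; rw [mul_zero] at hr; exact hr0 hr
  have hdeg : r.natDegree = 0 := by
    have e := congrArg natDegree hr
    rw [natDegree_mul hm.ne_zero hrne, Polynomial.reverse_natDegree] at e
    omega
  refine ⟨r.coeff 0, fun h => hrne ?_, ?_⟩
  · rw [eq_C_of_natDegree_eq_zero hdeg, h, C_0]
  · rw [hr, mul_comm]; exact congrArg (· * minpoly F g) (eq_C_of_natDegree_eq_zero hdeg)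

end Form

theorem reverse_pow {R : Type*} [CommRing R] [IsDomain R] (f : R[X]) (k : ℕ) :
    (f ^ k).reverse = f.reverse ^ k := by
  induction k with
  | zero => rw [pow_zero, pow_zero, ← C_1, Polynomial.reverse_C]
  | succ k ih => rw [pow_succ, Polynomial.reverse_mul_of_domain, ih, pow_succ]

theorem rootMultiplicity_inv {Ω : Type*} [Field Ω] {f : Polynomial Ω} (hf : f ≠ 0) {c : Ω} (hc : c ≠ 0)
    (hrev : f.reverse = C c * f) {x : Ω} (hx : x ≠ 0) : f.rootMultiplicity x ≤ f.rootMultiplicity x⁻¹ := by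
  rw [Polynomial.le_rootMultiplicity_iff hf]
  obtain ⟨r, hr⟩ := f.pow_rootMultiplicity_dvd x
  have h1 : (X - C x).reverse = C (-x) * (X - C x⁻¹) := by
    ext i
    rw [Polynomial.coeff_reverse, natDegree_X_sub_C, coeff_C_mul, coeff_sub, coeff_sub]
    rcases i with _ | _ | i
    · simp [hx]
    · simp
    · rw [show Polynomial.revAt 1 (i + 2) = i + 2 from Polynomial.revAt_eq_self_of_lt (by omega)]
      simp [coeff_X]
  have h2 : (X - C x⁻¹) ^ f.rootMultiplicity x ∣ C c * f := by
    rw [← hrev]
    conv_rhs => rw [hr]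
    rw [Polynomial.reverse_mul_of_domain, reverse_pow, h1, mul_pow]
    exact dvd_mul_of_dvd_left (dvd_mul_left _ _) _
  exact (Polynomial.isUnit_C.2 (isUnit_iff_ne_zero.2 hc)).dvd_mul_left.1 h2

theorem sum_count_le {α : Type*} [DecidableEq α] (s : Multiset α) (T : Finset α) :
    ∑ x ∈ T, s.count x ≤ Multiset.card s := by
  calc ∑ x ∈ T, s.count x ≤ ∑ x ∈ T ∪ s.toFinset, s.count x :=
        Finset.sum_le_sum_of_subset Finset.subset_union_left
    _ = _ := Multiset.sum_count_eq_card fun a ha => Finset.mem_union_right _ (Multiset.mem_toFinset.2 ha)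

theorem three_pow_bound : ∀ j : ℕ, 2 * j + 1 ≤ 3 ^ j
  | 0 => by norm_num
  | j + 1 => by have := three_pow_bound j; rw [pow_succ]; omega

theorem two_pow_bound : ∀ j : ℕ, j + 1 ≤ 2 ^ j
  | 0 => by norm_num
  | j + 1 => by have := two_pow_bound j; rw [pow_succ]; omega

/-- An isometry of a nondegenerate bilinear form on a space of dimension 2m or 2m+1 has small order modulo ±1. -/
theorem exists_exp {F : Type*} [Field F] [Fintype F] {V : Type*} [AddCommGroup V] [Module F V]
    [FiniteDimensional F V] (B : V →ₗ[F] V →ₗ[F] F) (hB : ∀ u, (∀ v, B u v = 0) → u = 0)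
    {g g' : Module.End F V} (h1 : g * g' = 1) (h2 : g' * g = 1) (hg : ∀ u v, B (g u) (g v) = B u v)
    {m : ℕ} (hm : 2 ≤ m)
    (hn : Module.finrank F V ≤ 2 * m ∨ (3 ≤ m ∧ (2 : F) ≠ 0 ∧ Module.finrank F V ≤ 2 * m + 1)) :
    ∃ N, 0 < N ∧ (Fintype.card F - 1) * N ≤ Fintype.card F ^ (m + 1) ∧ (g ^ N = 1 ∨ g ^ N = -1) := by
  classical
  obtain ⟨p, hp⟩ := CharP.exists F
  obtain ⟨f, hpp, hcard⟩ := FiniteField.card F p
  haveI := Fact.mk hpp
  set q := Fintype.card F with hq
  have hq2 : 2 ≤ q := Fintype.one_lt_card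
  have hpq : p ≤ q := hcard ▸ Nat.le_self_pow f.ne_zero p
  have hp2F : p = 2 ↔ (2 : F) = 0 := by
    refine ⟨?_, fun h => ?_⟩
    · rintro rfl; exact_mod_cast CharP.cast_eq_zero F 2
    · exact (Nat.prime_dvd_prime_iff_eq hpp Nat.prime_two).1 ((CharP.cast_eq_zero_iff F p 2).1 (by exact_mod_cast h))
  set Ω := AlgebraicClosure F
  haveI : CharP Ω p := charP_of_injective_algebraMap (algebraMap F Ω).injective p
  have hfrob : Function.Injective fun x : Ω => x ^ q := by
    have h := (iterateFrobenius Ω p f).injective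
    intro a b hab
    exact h (by simpa [iterateFrobenius_def, hcard] using hab)
  obtain ⟨h0, c, hc, hrev⟩ := minpoly_reverse B hB h1 h2 hg
  have hint : IsIntegral F g := Algebra.IsIntegral.isIntegral g
  set μ := minpoly F g with hμ
  have hmon : μ.Monic := minpoly.monic hint
  have hdeg : μ.natDegree ≤ Module.finrank F V := by
    rw [← LinearMap.charpoly_natDegree g]
    exact natDegree_le_of_dvd (LinearMap.minpoly_dvd_charpoly g) (LinearMap.charpoly_monic g).ne_zero
  set ν := μ.map (algebraMap F Ω) with hν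
  have hνmon : ν.Monic := hmon.map _
  have hνcard : Multiset.card ν.roots ≤ Module.finrank F V :=
    (card_roots' ν).trans (by rw [hν, natDegree_map]; exact hdeg)
  have hνrev : ν.reverse = C (algebraMap F Ω c) * ν := by
    have e : ν.reverse = μ.reverse.map (algebraMap F Ω) := by
      ext i
      rw [coeff_map, Polynomial.coeff_reverse, Polynomial.coeff_reverse, hν, natDegree_map, coeff_map]
    rw [e, hrev, Polynomial.map_mul, map_C]
  have hroot0 : ∀ x ∈ ν.roots, x ≠ 0 := by
    rintro x hx rfl
    rw [mem_roots hνmon.ne_zero, IsRoot, ← coeff_zero_eq_eval_zero, hν, coeff_map] at hx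
    exact h0 ((map_eq_zero _).1 hx)
  have hinvle : ∀ x ∈ ν.roots, ν.roots.count x ≤ ν.roots.count x⁻¹ := fun x hx => by
    rw [count_roots, count_roots]
    exact rootMultiplicity_inv hνmon.ne_zero ((_root_.map_ne_zero _).2 hc) hνrev (hroot0 x hx)
  have hinvmem : ∀ x ∈ ν.roots, x⁻¹ ∈ ν.roots := fun x hx =>
    Multiset.count_pos.1 (lt_of_lt_of_le (Multiset.count_pos.2 hx) (hinvle x hx))
  have hqmem : ∀ x ∈ ν.roots, x ^ q ∈ ν.roots := fun x hx => by
    rw [mem_roots hνmon.ne_zero, IsRoot, hν, eval_map_algebraMap] at hx ⊢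
    rw [← Polynomial.expand_aeval, hq, FiniteField.expand_card, map_pow, hx, zero_pow (by omega)]
  -- the roots other than ±1
  set R := ν.roots.toFinset.filter fun x => x ≠ 1 ∧ x ≠ -1 with hR
  have hRmem : ∀ x ∈ R, x ∈ ν.roots ∧ x ≠ 1 ∧ x ≠ -1 := fun x hx => by
    simpa [hR] using hx
  have hinv_ne : ∀ x ∈ R, x⁻¹ ≠ x := fun x hx h => by
    obtain ⟨hx0, hx1, hx2⟩ := hRmem x hx
    have h3 : x ^ 2 = 1 := by
      rw [pow_two]
      nth_rewrite 1 [← h]
      exact inv_mul_cancel₀ (hroot0 x hx0)
    rcases sq_eq_one_iff.1 h3 with h3 | h3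
    · exact hx1 h3
    · exact hx2 h3
  obtain ⟨s, hs1, hs2, hs3⟩ := exists_orbits hq2 hfrob _ R rfl fun x hx => by
    obtain ⟨hx0, hx1, hx2⟩ := hRmem x hx
    refine ⟨hroot0 x hx0, hinv_ne x hx, ?_, ?_⟩
    · refine Finset.mem_filter.2 ⟨Multiset.mem_toFinset.2 (hqmem x hx0), fun h => hx1 (hfrob ?_), fun h => hx2 (hfrob ?_)⟩
      · simpa using h
      · show x ^ q = (-1 : Ω) ^ q
        rw [h, hcard]
        exact (neg_one_pow_char_pow Ω p f).symm
    · refine Finset.mem_filter.2 ⟨Multiset.mem_toFinset.2 (hinvmem x hx0), fun h => hx1 ?_, fun h => hx2 ?_⟩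
      · exact inv_eq_one.1 h
      · rw [← inv_inv x, h, inv_neg, inv_one]
  have hrest : ∀ x ∈ ν.roots, x ∉ R → x = 1 ∨ x = -1 := fun x hx hxR => by
    by_contra hno
    push Not at hno
    exact hxR (Finset.mem_filter.2 ⟨Multiset.mem_toFinset.2 hx, hno⟩)
  have hcountpos : ∀ x ∈ R, 1 ≤ ν.roots.count x := fun x hx => Multiset.count_pos.2 (hRmem x hx).1
  -- conclusion from multiplicity and eigenvalue bounds
  have fin : ∀ (M j : ℕ) (z : F), 0 < M → z ^ p ^ j = z →
      (∀ x ∈ ν.roots, ν.roots.count x ≤ p ^ j ∧ x ^ M = algebraMap F Ω z) →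
      g ^ (M * p ^ j) = z • 1 := by
    intro M j z hM hz h
    have hd : ν ∣ (X ^ M - C (algebraMap F Ω z)) ^ p ^ j := by
      conv_lhs => rw [Polynomial.Splits.eq_prod_roots_of_monic (IsAlgClosed.splits ν) hνmon]
      rw [Multiset.prod_X_sub_C_dvd_iff_le_roots (pow_ne_zero _ (monic_X_pow_sub_C _ hM.ne').ne_zero),
        Multiset.le_iff_count]
      intro x
      by_cases hx : x ∈ ν.roots
      · rw [roots_pow, Multiset.count_nsmul]
        refine le_trans (h x hx).1 (Nat.le_mul_of_pos_right _ (Multiset.count_pos.2 ?_))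
        rw [mem_roots (monic_X_pow_sub_C _ hM.ne').ne_zero, IsRoot, eval_sub, eval_pow, eval_X, eval_C,
          (h x hx).2, sub_self]
      · rw [Multiset.count_eq_zero.2 hx]; exact Nat.zero_le _
    rw [sub_pow_char_pow, ← pow_mul, ← map_pow C, ← map_pow, hz] at hd
    have hd' : μ ∣ X ^ (M * p ^ j) - C z := by
      refine (map_dvd_map (algebraMap F Ω) (algebraMap F Ω).injective hmon).1 ?_
      simpa [hν] using hd
    obtain ⟨r, hr⟩ := hd'
    have := congrArg (aeval g) hr
    rw [map_sub, map_pow, aeval_X, aeval_C, map_mul, minpoly.aeval, zero_mul, sub_eq_zero,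
      Algebra.algebraMap_eq_smul_one] at this
    exact this
  have hpow_le : ∀ j, p ^ j ≤ q ^ j := fun j => Nat.pow_le_pow_left hpq j
  have hp3 : p ≠ 2 → ∀ j, 3 ^ j ≤ p ^ j := fun h j => Nat.pow_le_pow_left (by have := hpp.two_le; omega) j
  have hp2' : ∀ j, 2 ^ j ≤ p ^ j := fun j => Nat.pow_le_pow_left hpp.two_le j
  rcases R.eq_empty_or_nonempty with hemp | ⟨x0, hx0⟩
  · -- only the eigenvalues ±1
    have hall : ∀ x ∈ ν.roots, x = 1 ∨ x = -1 := fun x hx => hrest x hx (by simp [hemp])
    have hcnt : ∀ x : Ω, ν.roots.count x ≤ Module.finrank F V := fun x => (Multiset.count_le_card x _).trans hνcard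
    by_cases hp2 : p = 2
    · have h20 : (2 : F) = 0 := hp2F.1 hp2
      have hn' : Module.finrank F V ≤ 2 * m := hn.resolve_right fun h => h.2.1 h20
      haveI : CharP Ω 2 := hp2 ▸ (inferInstance : CharP Ω p)
      refine ⟨1 * p ^ m, Nat.mul_pos one_pos (pow_pos hpp.pos _), ?_, Or.inl ((fin 1 m 1 one_pos (one_pow _) fun x hx => ⟨?_, ?_⟩).trans (one_smul _ _))⟩
      · calc (q - 1) * (1 * p ^ m) ≤ q * q ^ m := Nat.mul_le_mul (Nat.sub_le _ _) (by rw [one_mul]; exact hpow_le m)
          _ = _ := by ring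
      · have := hcnt x
        have h3 : 2 * m ≤ 2 ^ m := by
          obtain ⟨k, rfl⟩ : ∃ k, m = k + 1 := ⟨m - 1, by omega⟩
          rw [pow_succ]
          have := two_pow_bound k
          omega
        have := hp2' m
        omega
      · rw [pow_one, map_one]
        rcases hall x hx with rfl | rfl
        · rfl
        · exact CharTwo.neg_eq 1
    · have hn' : Module.finrank F V ≤ 2 * m + 1 := by rcases hn with h | h <;> omega
      have hodd : Odd p := hpp.odd_of_ne_two hp2
      have hbig : ∀ x : Ω, ν.roots.count x ≤ p ^ m := fun x =>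
        (hcnt x).trans (hn'.trans ((three_pow_bound m).trans (hp3 hp2 m)))
      by_cases hA : ∀ x ∈ ν.roots, x = 1
      · refine ⟨1 * p ^ m, Nat.mul_pos one_pos (pow_pos hpp.pos _), ?_, Or.inl ((fin 1 m 1 one_pos (one_pow _) fun x hx => ⟨hbig x, ?_⟩).trans (one_smul _ _))⟩
        · calc (q - 1) * (1 * p ^ m) ≤ q * q ^ m := Nat.mul_le_mul (Nat.sub_le _ _) (by rw [one_mul]; exact hpow_le m)
            _ = _ := by ring
        · rw [pow_one, map_one, hA x hx]
      · push Not at hA
        obtain ⟨y, hy, hy1⟩ := hA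
        have hym : y = -1 := (hall y hy).resolve_left hy1
        by_cases hB' : ∀ x ∈ ν.roots, x = -1
        · refine ⟨1 * p ^ m, Nat.mul_pos one_pos (pow_pos hpp.pos _), ?_, Or.inr ((fin 1 m (-1) one_pos (hodd.pow.neg_one_pow) fun x hx => ⟨hbig x, ?_⟩).trans (neg_one_smul _ _))⟩
          · calc (q - 1) * (1 * p ^ m) ≤ q * q ^ m := Nat.mul_le_mul (Nat.sub_le _ _) (by rw [one_mul]; exact hpow_le m)
              _ = _ := by ring
          · rw [pow_one, map_neg, map_one, hB' x hx]
        · push Not at hB'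
          obtain ⟨z, hz, hz1⟩ := hB'
          have hzm : z = 1 := (hall z hz).resolve_right hz1
          have hone : (1 : Ω) ≠ -1 := fun h => hy1 (hym.trans h.symm)
          refine ⟨2 * p ^ (m - 1), Nat.mul_pos two_pos (pow_pos hpp.pos _), ?_, Or.inl ((fin 2 (m - 1) 1 two_pos (one_pow _) fun x hx => ⟨?_, ?_⟩).trans (one_smul _ _))⟩
          · obtain ⟨k, rfl⟩ : ∃ k, m = k + 1 := ⟨m - 1, by omega⟩
            rw [Nat.add_sub_cancel, pow_succ, pow_succ]
            have h3 := hpow_le k
            have h4 : 2 * (q - 1) ≤ q * q := by nlinarith [Nat.sub_le q 1]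
            calc (q - 1) * (2 * p ^ k) = 2 * (q - 1) * p ^ k := by ring
              _ ≤ q * q * q ^ k := Nat.mul_le_mul h4 h3
              _ = _ := by ring
          · have hlt : ν.roots.count x + 1 ≤ Module.finrank F V := by
              obtain ⟨w, hw, hwx⟩ : ∃ w ∈ ν.roots, w ≠ x := by
                rcases hall x hx with rfl | rfl
                · exact ⟨y, hy, hy1⟩
                · exact ⟨z, hz, hz1⟩
              have := (sum_count_le ν.roots {w, x}).trans hνcard
              rw [Finset.sum_pair hwx] at this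
              have := Multiset.count_pos.2 hw
              omega
            refine le_trans (show _ ≤ 3 ^ (m - 1) from ?_) (hp3 hp2 _)
            obtain ⟨k, rfl⟩ : ∃ k, m = k + 1 := ⟨m - 1, by omega⟩
            rw [Nat.add_sub_cancel]
            rcases hn with h | ⟨h3m, -, h⟩
            · have := three_pow_bound k; omega
            · obtain ⟨i, rfl⟩ : ∃ i, k = i + 2 := ⟨k - 2, by omega⟩
              have := three_pow_bound i
              rw [pow_add]
              omega
          · rcases hall x hx with rfl | rfl <;> simp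
  · -- some eigenvalue other than ±1
    set D := (s.map Prod.fst).sum with hD
    set L := (s.map (val q)).lcm with hL
    have hLpos : 0 < L := Nat.pos_of_ne_zero fun h => by
      rw [hL, Multiset.lcm_eq_zero_iff, Multiset.mem_map] at h
      obtain ⟨e, he, h⟩ := h
      have := val_pos hq2 (hs1 e he)
      omega
    have hR2 : 2 ≤ R.card := by
      obtain ⟨h3, h4, h5⟩ := hRmem x0 hx0
      have hx0' : x0⁻¹ ∈ R := Finset.mem_filter.2 ⟨Multiset.mem_toFinset.2 (hinvmem x0 h3),
        fun h => h4 (inv_eq_one.1 h), fun h => h5 (by rw [← inv_inv x0, h, inv_neg, inv_one])⟩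
      exact Finset.one_lt_card.2 ⟨_, hx0', _, hx0, hinv_ne x0 hx0⟩
    have hsumR : R.card ≤ ∑ y ∈ R, ν.roots.count y := by
      rw [Finset.card_eq_sum_ones]
      exact Finset.sum_le_sum hcountpos
    have htot := (sum_count_le ν.roots R).trans hνcard
    have hj1 : ∀ x ∈ R, ν.roots.count x - 1 + (ν.roots.count x - 1) + 2 * D ≤ Module.finrank F V := by
      intro x hx
      obtain ⟨h3, h4, h5⟩ := hRmem x hx
      have hx' : x⁻¹ ∈ R := Finset.mem_filter.2 ⟨Multiset.mem_toFinset.2 (hinvmem x h3),
        fun h => h4 (inv_eq_one.1 h), fun h => h5 (by rw [← inv_inv x, h, inv_neg, inv_one])⟩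
      have h6 : ∑ y ∈ R, (ν.roots.count y - 1) + R.card ≤ Module.finrank F V := by
        rw [Finset.card_eq_sum_ones, ← Finset.sum_add_distrib]
        refine le_trans (Finset.sum_le_sum fun y hy => ?_) htot
        have := hcountpos y hy
        omega
      have h7 := Finset.sum_le_sum_of_subset (f := fun y => ν.roots.count y - 1)
        (show ({x, x⁻¹} : Finset Ω) ⊆ R from Finset.insert_subset hx (Finset.singleton_subset_iff.2 hx'))
      rw [Finset.sum_pair (hinv_ne x hx).symm] at h7
      have h8 := hinvle x h3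
      omega
    have hj2 : ∀ x ∉ R, ν.roots.count x + 2 * D ≤ Module.finrank F V := by
      intro x hx
      have h6 := (sum_count_le ν.roots (insert x R)).trans hνcard
      rw [Finset.sum_insert hx] at h6
      omega
    have hDm : D ≤ m := by rcases hn with h | h <;> omega
    have hxL : ∀ x ∈ R, x ^ L = 1 := fun x hx => by
      obtain ⟨e, he, h⟩ := hs3 x hx
      obtain ⟨k, hk⟩ := Multiset.dvd_lcm (Multiset.mem_map_of_mem (val q) he)
      rw [hL, hk, pow_mul, h, one_pow]
    have hneg : (-1 : Ω) ^ L = 1 := by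
      by_cases hp2 : p = 2
      · haveI : CharP Ω 2 := hp2 ▸ (inferInstance : CharP Ω p)
        rw [CharTwo.neg_eq, one_pow]
      · obtain ⟨e, he, -⟩ := hs3 x0 hx0
        have hqodd : Odd q := hcard ▸ (hpp.odd_of_ne_two hp2).pow
        have hev : Even (val q e) := by
          have h3 : Odd (q ^ e.1) := hqodd.pow
          unfold val
          split_ifs
          · exact h3.add_one
          · exact Nat.Odd.sub_odd h3 odd_one
        obtain ⟨k, hk⟩ := Multiset.dvd_lcm (Multiset.mem_map_of_mem (val q) he)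
        rw [hL, hk, pow_mul, hev.neg_one_pow, one_pow]
    refine ⟨L * p ^ (m - D), Nat.mul_pos hLpos (pow_pos hpp.pos _), ?_,
      Or.inl ((fin L (m - D) 1 hLpos (one_pow _) fun x hx => ⟨?_, ?_⟩).trans (one_smul _ _))⟩
    · calc (q - 1) * (L * p ^ (m - D)) = (q - 1) * L * p ^ (m - D) := by ring
        _ ≤ q ^ (D + 1) * q ^ (m - D) := Nat.mul_le_mul (lcm_le hq2 _ s rfl hs1) (hpow_le _)
        _ = _ := by rw [← pow_add]; congr 1; omega
    · by_cases hxR : x ∈ R
      · have h6 := hj1 x hxR
        refine le_trans (le_trans ?_ (two_pow_bound (m - D))) (hp2' _)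
        rcases hn with h | h <;> omega
      · have h6 := hj2 x hxR
        by_cases hp2 : p = 2
        · have hn' : Module.finrank F V ≤ 2 * m := hn.resolve_right fun h => h.2.1 (hp2F.1 hp2)
          refine le_trans ?_ (hp2' _)
          rcases Nat.eq_zero_or_pos (m - D) with h0' | h0'
          · rw [h0', pow_zero]; omega
          · obtain ⟨k, hk⟩ : ∃ k, m - D = k + 1 := ⟨m - D - 1, by omega⟩
            have := two_pow_bound k
            rw [hk, pow_succ]
            omega
        · refine le_trans (le_trans ?_ (three_pow_bound (m - D))) (hp3 hp2 _)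
          rcases hn with h | h <;> omega
    · rw [map_one]
      by_cases hxR : x ∈ R
      · exact hxL x hxR
      · rcases hrest x hx hxR with rfl | rfl
        · exact one_pow _
        · exact hneg

end Cfsg.Agent.FormOrder
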