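import Mathlib

/-!
The least common multiple of numbers `q ^ d ± 1` is at most `q ^ (∑ d + 1) / (q - 1)`.
-/

set_option autoImplicit false

namespace Cfsg.Agent.FormOrder

/-- `q ^ d + 1` or `q ^ d - 1`. -/
def val (q : ℕ) (e : ℕ × Bool) : ℕ := if e.2 then q ^ e.1 + 1 else q ^ e.1 - 1

theorem val_pos {q : ℕ} (hq : 2 ≤ q) {e : ℕ × Bool} (he : 0 < e.1) : 0 < val q e := by
  unfold val
  split_ifs
  · omega
  · exact Nat.sub_pos_of_lt (Nat.one_lt_pow he.ne' hq)

theorem prod_two_pow (q N : ℕ) (hq : 1 ≤ q) :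
    (∏ v ∈ Finset.range N, (q ^ 2 ^ v + 1)) * (q - 1) + 1 = q ^ 2 ^ N := by
  induction N with
  | zero => simp; omega
  | succ N ih =>
    rw [Finset.prod_range_succ, pow_succ 2 N, pow_mul, ← ih]
    ring

theorem sum_two_pow (N : ℕ) : (∑ v ∈ Finset.range N, 2 ^ v) + 1 = 2 ^ N := by
  induction N with
  | zero => simp
  | succ N ih => rw [Finset.sum_range_succ, pow_succ]; omega

theorem prod_subset_le (q : ℕ) (hq : 2 ≤ q) (T : Finset ℕ) :
    (q - 1) * ∏ v ∈ T, (q ^ 2 ^ v + 1) ≤ q ^ ((∑ v ∈ T, 2 ^ v) + 1) := by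
  obtain ⟨N, hN⟩ : ∃ N, T ⊆ Finset.range N := ⟨T.sup id + 1, fun v hv => Finset.mem_range.2
    (Nat.lt_succ_of_le (Finset.le_sup (f := id) hv))⟩
  have h1 := prod_two_pow q N (by omega)
  have h2 := sum_two_pow N
  rw [← Finset.prod_sdiff hN] at h1
  rw [← Finset.sum_sdiff hN] at h2
  have h3 : q ^ (∑ v ∈ Finset.range N \ T, 2 ^ v) ≤ ∏ v ∈ Finset.range N \ T, (q ^ 2 ^ v + 1) := by
    rw [← Finset.prod_pow_eq_pow_sum]
    exact Finset.prod_le_prod (fun _ _ => Nat.zero_le _) fun _ _ => Nat.le_succ _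
  refine Nat.le_of_mul_le_mul_left (c := q ^ (∑ v ∈ Finset.range N \ T, 2 ^ v)) ?_ (pow_pos (by omega) _)
  rw [← pow_add, ← add_assoc, h2, ← h1]
  calc _ ≤ (∏ v ∈ Finset.range N \ T, (q ^ 2 ^ v + 1)) * ((q - 1) * ∏ v ∈ T, (q ^ 2 ^ v + 1)) :=
        Nat.mul_le_mul_right _ h3
    _ ≤ _ := by rw [mul_left_comm, ← mul_assoc, mul_comm (_ * _) (∏ v ∈ T, _)]; exact Nat.le_succ_of_le (le_of_eq (by ring))

/-- The dyadic valuation. -/
def dy (d : ℕ) : ℕ := d.factorization 2

theorem two_pow_dy_le {d : ℕ} (hd : 0 < d) : 2 ^ dy d ≤ d := Nat.le_of_dvd hd (Nat.ordProj_dvd d 2)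

theorem dvd_val {q d : ℕ} (hd : 0 < d) : q ^ 2 ^ dy d + 1 ∣ q ^ d + 1 := by
  have hodd : Odd (d / 2 ^ dy d) :=
    Nat.not_even_iff_odd.1 fun h => Nat.not_dvd_ordCompl Nat.prime_two hd.ne' h.two_dvd
  have := hodd.nat_add_dvd_pow_add_pow (q ^ 2 ^ dy d) 1
  rwa [one_pow, ← pow_mul, Nat.mul_div_cancel' (show 2 ^ dy d ∣ d from Nat.ordProj_dvd d 2)] at this

theorem prod_plus_le {q : ℕ} (hq : 2 ≤ q) : ∀ s : Multiset ℕ, (∀ d ∈ s, 0 < d) →
    (s.map fun d => q ^ d + 1).prod * q ^ (s.map fun d => 2 ^ dy d).sum ≤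
      q ^ s.sum * (s.map fun d => q ^ 2 ^ dy d + 1).prod := by
  intro s
  induction s using Multiset.induction with
  | empty => simp
  | cons d s ih =>
    intro h
    have hd := two_pow_dy_le (h d (Multiset.mem_cons_self d s))
    have h' := ih fun x hx => h x (Multiset.mem_cons_of_mem hx)
    have h1 : (q ^ d + 1) * q ^ 2 ^ dy d ≤ q ^ d * (q ^ 2 ^ dy d + 1) := by
      have := Nat.pow_le_pow_right (n := q) (by omega) hd
      nlinarith
    simp only [Multiset.map_cons, Multiset.prod_cons, Multiset.sum_cons, pow_add]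
    calc _ = ((q ^ d + 1) * q ^ 2 ^ dy d) *
          ((s.map fun d => q ^ d + 1).prod * q ^ (s.map fun d => 2 ^ dy d).sum) := by ring
      _ ≤ (q ^ d * (q ^ 2 ^ dy d + 1)) * (q ^ s.sum * (s.map fun d => q ^ 2 ^ dy d + 1).prod) :=
        Nat.mul_le_mul h1 h'
      _ = _ := by ring

theorem lcm_merge {q a b : ℕ} (hq : 2 ≤ q) (ha : 0 < a) (hb : 0 < b) (h : dy a = dy b) :
    Nat.lcm (q ^ a + 1) (q ^ b + 1) ≤ q ^ (a + b) := by
  have hg : q ^ 2 ^ dy a + 1 ≤ Nat.gcd (q ^ a + 1) (q ^ b + 1) :=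
    Nat.le_of_dvd (Nat.gcd_pos_of_pos_left _ (by omega)) (Nat.dvd_gcd (dvd_val ha) (h ▸ dvd_val hb))
  refine Nat.le_of_mul_le_mul_left (c := Nat.gcd (q ^ a + 1) (q ^ b + 1)) ?_ (Nat.gcd_pos_of_pos_left _ (by omega))
  rw [Nat.gcd_mul_lcm]
  have h2 : 2 ≤ q ^ 2 ^ dy a := le_trans hq (Nat.le_self_pow (by positivity) q)
  have h3 : q ≤ q ^ a := Nat.le_self_pow ha.ne' q
  have h4 : q ≤ q ^ b := Nat.le_self_pow hb.ne' q
  calc (q ^ a + 1) * (q ^ b + 1) ≤ (q ^ 2 ^ dy a + 1) * q ^ (a + b) := by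
        rw [pow_add]
        have h5 := Nat.mul_le_mul (le_refl (q ^ a)) (le_trans hq h4)
        have h6 := Nat.mul_le_mul (le_trans hq h3) (le_refl (q ^ b))
        have h7 := Nat.mul_le_mul h2 (le_refl (q ^ a * q ^ b))
        nlinarith
    _ ≤ _ := Nat.mul_le_mul_right _ hg

/-- The bound on the least common multiple. -/
theorem lcm_le {q : ℕ} (hq : 2 ≤ q) : ∀ (n : ℕ) (s : Multiset (ℕ × Bool)), Multiset.card s = n →
    (∀ e ∈ s, 0 < e.1) → (q - 1) * (s.map (val q)).lcm ≤ q ^ ((s.map Prod.fst).sum + 1) := by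
  intro n
  induction n using Nat.strong_induction_on with
  | _ n ih =>
    intro s hn hpos
    by_cases hminus : ∃ d, (d, false) ∈ s
    · obtain ⟨d, hd⟩ := hminus
      obtain ⟨r, rfl⟩ := Multiset.exists_cons_of_mem hd
      rw [Multiset.card_cons] at hn
      have hr := ih _ (by omega) r rfl fun e he => hpos e (Multiset.mem_cons_of_mem he)
      simp only [Multiset.map_cons, Multiset.lcm_cons, Multiset.sum_cons, lcm_eq_nat_lcm]
      have hv : val q (d, false) ≤ q ^ d := Nat.sub_le _ _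
      rw [add_assoc, pow_add]
      calc (q - 1) * Nat.lcm (val q (d, false)) ((r.map (val q)).lcm)
            ≤ (q - 1) * (val q (d, false) * (r.map (val q)).lcm) := by
              refine Nat.mul_le_mul_left _ ?_
              rcases Nat.eq_zero_or_pos (val q (d, false) * (r.map (val q)).lcm) with h0 | h0
              · rw [h0]; rcases mul_eq_zero.1 h0 with h | h <;> simp [h]
              · exact Nat.le_of_dvd h0 (Nat.lcm_dvd_mul _ _)
        _ = val q (d, false) * ((q - 1) * (r.map (val q)).lcm) := by ring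
        _ ≤ q ^ d * q ^ ((r.map Prod.fst).sum + 1) := Nat.mul_le_mul hv hr
    · have hall : ∀ e ∈ s, e = (e.1, true) := fun e he => by
        obtain ⟨d, b⟩ := e
        cases b
        · exact absurd ⟨d, he⟩ hminus
        · rfl
      set D := s.map Prod.fst with hD
      have hsD : s.map (val q) = D.map fun d => q ^ d + 1 := by
        rw [hD, Multiset.map_map]
        exact Multiset.map_congr rfl fun e he => by rw [hall e he]; simp [val]
      have hDpos : ∀ d ∈ D, 0 < d := fun d hd => by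
        obtain ⟨e, he, rfl⟩ := Multiset.mem_map.1 hd
        exact hpos e he
      by_cases hnd : (D.map dy).Nodup
      · rw [hsD]
        have hle : (D.map fun d => q ^ d + 1).lcm ≤ (D.map fun d => q ^ d + 1).prod :=
          Nat.le_of_dvd (Nat.pos_of_ne_zero (Multiset.prod_ne_zero (by simp)))
            (Multiset.lcm_dvd.2 fun x hx => Multiset.dvd_prod hx)
        refine le_trans (Nat.mul_le_mul_left _ hle) ?_
        have h1 := prod_plus_le hq D hDpos
        have h2 := prod_subset_le q hq ⟨D.map dy, hnd⟩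
        simp only [Finset.prod_mk, Finset.sum_mk, Multiset.map_map, Function.comp_def] at h2
        refine Nat.le_of_mul_le_mul_right (c := q ^ (D.map fun d => 2 ^ dy d).sum) ?_ (pow_pos (by omega) _)
        calc _ = (q - 1) * ((D.map fun d => q ^ d + 1).prod * q ^ (D.map fun d => 2 ^ dy d).sum) := by ring
          _ ≤ (q - 1) * (q ^ D.sum * (D.map fun d => q ^ 2 ^ dy d + 1).prod) := Nat.mul_le_mul_left _ h1
          _ = q ^ D.sum * ((q - 1) * (D.map fun d => q ^ 2 ^ dy d + 1).prod) := by ring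
          _ ≤ q ^ D.sum * q ^ ((D.map fun d => 2 ^ dy d).sum + 1) := Nat.mul_le_mul_left _ h2
          _ = _ := by ring
      · -- two entries with the same valuation
        obtain ⟨v, hv⟩ : ∃ v, 2 ≤ (D.map dy).count v := by
          by_contra hno
          push Not at hno
          exact hnd (Multiset.nodup_iff_count_le_one.2 fun v => by have := hno v; omega)
        obtain ⟨a, ha, hav⟩ := Multiset.mem_map.1 (Multiset.count_pos.1 (by omega : 0 < (D.map dy).count v))
        obtain ⟨r1, hr1⟩ := Multiset.exists_cons_of_mem ha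
        obtain ⟨b, hb, hbv⟩ := Multiset.mem_map.1 (Multiset.count_pos.1 (show 0 < (r1.map dy).count v by
          rw [hr1, Multiset.map_cons, hav, Multiset.count_cons_self] at hv; omega))
        obtain ⟨r2, hr2⟩ := Multiset.exists_cons_of_mem hb
        have hcard : Multiset.card r2 + 2 = n := by
          rw [← hn, ← Multiset.card_map Prod.fst s, ← hD, hr1, hr2, Multiset.card_cons, Multiset.card_cons]
        have hr := ih _ (show Multiset.card r2 < n by omega) (r2.map fun d => (d, true)) (by simp)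
          (fun e he => by
            obtain ⟨d, hd, rfl⟩ := Multiset.mem_map.1 he
            exact hDpos d (by rw [hr1, hr2]; simp [hd]))
        rw [Multiset.map_map, Multiset.map_map] at hr
        simp only [Function.comp_def, val, if_true, Multiset.map_id'] at hr
        rw [hsD, hr1, hr2]
        simp only [Multiset.map_cons, Multiset.lcm_cons, Multiset.sum_cons, lcm_eq_nat_lcm]
        rw [← Nat.lcm_assoc, ← add_assoc, add_assoc, pow_add]
        have hm := lcm_merge hq (hDpos a ha) (hDpos b (by rw [hr1]; exact Multiset.mem_cons_of_mem hb))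
          (hav.trans hbv.symm)
        calc (q - 1) * Nat.lcm (Nat.lcm (q ^ a + 1) (q ^ b + 1)) ((r2.map fun d => q ^ d + 1).lcm)
              ≤ (q - 1) * (Nat.lcm (q ^ a + 1) (q ^ b + 1) * (r2.map fun d => q ^ d + 1).lcm) := by
                refine Nat.mul_le_mul_left _ ?_
                rcases Nat.eq_zero_or_pos (Nat.lcm (q ^ a + 1) (q ^ b + 1) * (r2.map fun d => q ^ d + 1).lcm) with h0 | h0
                · rw [h0]; rcases mul_eq_zero.1 h0 with h | h <;> simp [h]
                · exact Nat.le_of_dvd h0 (Nat.lcm_dvd_mul _ _)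
          _ = Nat.lcm (q ^ a + 1) (q ^ b + 1) * ((q - 1) * (r2.map fun d => q ^ d + 1).lcm) := by ring
          _ ≤ q ^ (a + b) * q ^ (r2.sum + 1) := Nat.mul_le_mul hm hr

end Cfsg.Agent.FormOrder
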