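import Cfsg.Agent.FormOrder.Main

/-!
The order bound for matrix groups preserving a nondegenerate form, modulo their centre.
-/

set_option autoImplicit false

namespace Cfsg.Agent.FormOrder

open Matrix

theorem orderOf_quot_le {F : Type*} [Field F] [Fintype F] {ι : Type*} [Fintype ι] [DecidableEq ι] {G : Type*}
    [Group G] (ρ : G →* Matrix ι ι F) (hρ : Function.Injective ρ)
    (B : (ι → F) →ₗ[F] (ι → F) →ₗ[F] F) (hB : ∀ u, (∀ v, B u v = 0) → u = 0)
    (hg : ∀ (x : G) u v, B (ρ x *ᵥ u) (ρ x *ᵥ v) = B u v) {m : ℕ} (hm : 2 ≤ m)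
    (hn : Fintype.card ι ≤ 2 * m ∨ (3 ≤ m ∧ (2 : F) ≠ 0 ∧ Fintype.card ι ≤ 2 * m + 1))
    (g : G ⧸ Subgroup.center G) : (Fintype.card F - 1) * orderOf g ≤ Fintype.card F ^ (m + 1) := by
  obtain ⟨x, rfl⟩ := QuotientGroup.mk_surjective g
  set T := (Matrix.toLinAlgEquiv' : Matrix ι ι F ≃ₐ[F] Module.End F (ι → F)) with hT
  have hn' : Module.finrank F (ι → F) ≤ 2 * m ∨ (3 ≤ m ∧ (2 : F) ≠ 0 ∧ Module.finrank F (ι → F) ≤ 2 * m + 1) := by
    rwa [Module.finrank_fintype_fun_eq_card]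
  obtain ⟨N, hN, hle, hpm⟩ := exists_exp B hB (g := T (ρ x)) (g' := T (ρ x⁻¹))
    (by rw [← map_mul, ← map_mul, mul_inv_cancel, map_one, map_one])
    (by rw [← map_mul, ← map_mul, inv_mul_cancel, map_one, map_one])
    (fun u v => by simpa [hT] using hg x u v) hm hn'
  refine le_trans (Nat.mul_le_mul_left _ (Nat.le_of_dvd hN ?_)) hle
  rw [orderOf_dvd_iff_pow_eq_one, ← QuotientGroup.mk_pow, QuotientGroup.eq_one_iff]
  refine Subgroup.mem_center_iff.2 fun y => hρ ?_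
  have hpm' : ρ (x ^ N) = 1 ∨ ρ (x ^ N) = -1 := by
    rw [map_pow]
    rcases hpm with h | h
    · exact Or.inl (T.injective (by rw [map_pow, h, map_one]))
    · exact Or.inr (T.injective (by rw [map_pow, h, map_neg, map_one]))
  rw [map_mul, map_mul]
  rcases hpm' with h | h <;> simp [h]

end Cfsg.Agent.FormOrder
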